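import Cfsg.Agent.H144.TC.RowFour
import Cfsg.Agent.H126.TC.SpEven
import Cfsg.Agent.H812.TC.Row

/-!
# S2452 and S2464: the union of the rows `PSp_2m(q)` in the form `Row3` (helper860)

`m = 2`: helper812 and others; `q` even, `m ≥ 3`: helper126; `q` odd, `m ≥ 3`: helper843, helper7, helper144.
-/

set_option autoImplicit false

namespace Cfsg.Agent.H860.TW

open Cfsg Cfsg.Agent.H210.TC

theorem row3_sp (F : Type) [Field F] [Fintype F] {m : ℕ} (hm : 2 ≤ m) (hex : m = 2 → 3 ≤ Fintype.card F) :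
    Row3 (PSp m F) := by
  rcases Nat.lt_or_ge m 3 with h3 | h3
  · obtain rfl : m = 2 := by omega
    exact H812.TC.Row.row3_psp_four (hex rfl)
  · by_cases h2 : (2 : F) = 0
    · exact H126.TC.Sp.row3_psp_even h3 F h2
    · exact H144.TC.row3_psp_odd h3 F h2

/-- **the row `PSp`** -/
theorem row3_isPSp {G : Type*} [Group G] (h : IsPSp G) : Row3 G := by
  obtain ⟨F, _, _, m, hm, hex, ⟨e⟩⟩ := h
  exact Row3.of_equiv e (row3_sp F hm hex)

end Cfsg.Agent.H860.TW
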