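import Cfsg.Agent.H459.Ore.Frame
import Cfsg.Agent.H459.TC.Alt
import Cfsg.Agent.H588.TW.Defs
import Cfsg.Agent.H860.TW.PSp
import Cfsg.Agent.H962.TC.Psl
import Cfsg.Agent.H962.TC.Psl2
import Cfsg.Agent.H922.TC.LThreeAll
import Cfsg.Agent.S0255
import Cfsg.Agent.H950.TC.Psu
import Cfsg.Agent.H3.TC.Six
import Cfsg.Agent.H126.TC.Plus
import Cfsg.Agent.H367.TC.SixO

/-!
# S2452: the union of the alternating and classical rows (helper860)

`t52_cls` : `ClsRows` for `T52`, with the row `POmega_(2n+1)(q)`, `q` odd, as hypothesis.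
-/

set_option autoImplicit false

namespace Cfsg.Agent.H860.TW

open Cfsg Cfsg.Agent.H210.TC Cfsg.Agent.H588.TW

universe u

theorem row3_of_pp {G : Type*} [Group G] (h : H494.TC.PP G) : Row3 G := by
  obtain ⟨x, hx, hx6, h⟩ := h
  exact Row3.of_sq hx hx6 h

theorem t52_of_pp {G : Type*} [Group G] (h : H494.TC.PP G) : T52 G := T52.of_row3 (row3_of_pp h)

/-- `PSL_2(q)` -/
theorem t52_psl_two {F : Type*} [Field F] [Fintype F] (h4 : 4 ≤ Fintype.card F) :
    T52 (Matrix.ProjectiveSpecialLinearGroup (Fin 2) F) :=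
  H962.TC.s2452_psl_two h4

/-- `PSL_3(2)` -/
theorem t52_psl_three_two {F : Type*} [Field F] [Fintype F] (h2 : Fintype.card F = 2) :
    T52 (Matrix.ProjectiveSpecialLinearGroup (Fin 3) F) := by
  haveI : Fact (Nat.Prime 7) := ⟨by norm_num⟩
  obtain ⟨e⟩ := S0255.result (F := ZMod 7) (K := F) (ZMod.card 7) h2
  exact T52.congr e (t52_psl_two (by rw [ZMod.card]; norm_num))

/-- **the row `PSL`** -/
theorem t52_isPSL {G : Type*} [Group G] (h : IsPSL G) : T52 G := by
  obtain ⟨F, _, _, n, hn, hex, ⟨e⟩⟩ := h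
  refine T52.of_equiv e ?_
  rcases Nat.lt_or_ge n 4 with h4 | h4
  · rcases (show n = 2 ∨ n = 3 by omega) with rfl | rfl
    · exact t52_psl_two (hex rfl)
    · by_cases h2 : Fintype.card F = 2
      · exact t52_psl_three_two h2
      · exact t52_of_pp (Cfsg.Agent.H922.TC.L3.pp_psl_three_all F (by rw [Nat.card_eq_fintype_card]; exact h2))
  · exact t52_of_pp (H962.TC.pp_psl h4 F)

/-- **the row `PSU`** -/
theorem row3_isPSU {G : Type*} [Group G] (h : IsPSU G) : Row3 G := by
  obtain ⟨F, _, _, n, q, hF, hn, hex, ⟨e⟩⟩ := h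
  refine Row3.of_equiv e ?_
  rcases Nat.lt_or_ge n 4 with h4 | h4
  · obtain rfl : n = 3 := by omega
    have h1 : 2 ≤ Fintype.card F := Fintype.one_lt_card
    have h2 : 2 ≤ q := by
      by_contra h
      have : q = 0 ∨ q = 1 := by omega
      rcases this with rfl | rfl
      · rw [hF] at h1
        norm_num at h1
      · rw [hF] at h1
        norm_num at h1
    have h3 : 3 ≤ q := by
      rcases h2.eq_or_lt with h | h
      · exact absurd ⟨rfl, h.symm⟩ hex
      · exact h
    exact row3_of_pp (H3.TC.pp_psu_three_all h3 hF)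
  · exact H950.TC.row3_psu hF h4

/-- **the row `POmega⁺`** -/
theorem row3_isPOmegaPlus {G : Type u} [Group G] (h : IsPOmegaPlus G) : Row3 G := by
  obtain ⟨F, _, _, m, hm, ⟨e⟩⟩ := h
  rcases Nat.even_or_odd m with hev | hodd
  · exact Row3.of_equiv e (H126.TC.row3_plus hm hev)
  · exact H367.TC.row3_plus_odd hm hodd e

/-- **the alternating and classical rows of S2452**; hypothesis: `POmega_(2n+1)(q)` -/
theorem t52_cls (hodd : ∀ {G : Type u} [Group G], IsPOmegaOdd G → T52 G) :
    Cfsg.Agent.H459.Ore.ClsRows.{u} (fun G _ => T52 G) where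
  alt := fun h => T52.of_row3 (H459.TC.row3_isAlternating h)
  psl := t52_isPSL
  psp := fun h => T52.of_row3 (row3_isPSp h)
  psu := fun h => T52.of_row3 (row3_isPSU h)
  poo := hodd
  pop := fun h => T52.of_row3 (row3_isPOmegaPlus h)
  pom := fun h => T52.of_row3 (H367.TC.row3_minus h)

end Cfsg.Agent.H860.TW
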