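import Cfsg.Agent.H860.TW.Cls
import Cfsg.Agent.H140.TL.RowPPMain

/-!
# S2452: the alternating and classical rows, `POmega_(2n+1)(q)` with `n` even as the only hypothesis (helper860)
-/

set_option autoImplicit false

namespace Cfsg.Agent.H860.TW

open Cfsg Cfsg.Agent.H210.TC Cfsg.Agent.H588.TW

universe u

/-- the row `POmega_(2n+1)(q)`, `q` odd, `n ≥ 4` even -/
def OddEven : Prop := ∀ (F : Type) [Field F] [Fintype F] (n : ℕ), 4 ≤ n → Even n → Odd (Fintype.card F) →
  T52 (POmega F (quadFormOdd n F))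

theorem two_ne_zero_of_odd {F : Type*} [Field F] [Fintype F] (h : Odd (Fintype.card F)) : (2 : F) ≠ 0 := by
  intro h2
  have h8 : ringChar F ∣ 2 := ringChar.dvd (by exact_mod_cast h2)
  have h9 := FiniteField.even_card_iff_char_two.1
    (((Nat.dvd_prime Nat.prime_two).1 h8).resolve_left (CharP.ringChar_ne_one))
  rw [Nat.odd_iff] at h
  omega

theorem t52_isPOmegaOdd (hE : OddEven) {G : Type*} [Group G] (h : IsPOmegaOdd G) : T52 G := by
  obtain ⟨F, _, _, m, hm, ho, ⟨e⟩⟩ := h
  refine T52.of_equiv e ?_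
  rcases Nat.even_or_odd m with hev | hodd
  · exact hE F m (by obtain ⟨k, hk⟩ := hev; omega) hev ho
  · exact t52_of_pp (H140.TL.pp_odd (two_ne_zero_of_odd ho) hm hodd)

/-- **the alternating and classical rows of S2452** -/
theorem cls_full (hE : OddEven) : Cfsg.Agent.H459.Ore.ClsRows.{u} (fun G _ => T52 G) :=
  t52_cls (t52_isPOmegaOdd hE)

end Cfsg.Agent.H860.TW
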